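import Groth.Agent.Lib.Helper19.GRFib.Field
import Groth.Agent.Lib.Helper15.AlgSpLC
import Groth.Agent.S1301

/-!
# The locus of geometrically reduced fibres of a morphism of algebraic spaces is etale locally
constructible (helper19)
-/

set_option autoImplicit false
set_option linter.style.haveILetI false
universe u
open CategoryTheory CategoryTheory.Limits AlgebraicGeometry MorphismProperty TopologicalSpace Opposite
open AlgSp Groth.Agent.Helper15 Groth.Agent.Helper16.AS Groth.Agent.Helper19.UCSp

namespace Groth.Agent.Helper19.GRFib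

variable {S : Scheme.{u}} {X Y : Sp S} {f : X ⟶ Y}

section chart

variable {V U : Over S} {g₀ : (yon S).obj V ⟶ Y} {u₀ : U ⟶ V}
  (r : (yon S).obj U ⟶ pullback f g₀) (hr : r ≫ pullback.snd f g₀ = (yon S).map u₀)
  (hre : RepWith @Etale r) (hrs : RepWith @Surjective r)

include hr hre hrs in
/-- base change of the fibre over `v` to a field extension, via the chart -/
theorem redBC_ofPt_iff (v : V.left) (K : Type u) [Field K] (φ : (FieldPt.ofPt g₀ v).K →+* K)
    {Z : Scheme.{u}} (fst : Z ⟶ U.left) (snd : Z ⟶ Spec (CommRingCat.of K))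
    (sq : IsPullback fst snd u₀.left
      (Spec.map (CommRingCat.ofHom φ) ≫ V.left.fromSpecResidueField v)) :
    RedBC f ((yon S).map (Over.homMk (Spec.map (CommRingCat.ofHom φ)) rfl :
        Over.mk (Spec.map (CommRingCat.ofHom φ) ≫ (FieldPt.ofPt g₀ v).str) ⟶
          (FieldPt.ofPt g₀ v).pt) ≫ (FieldPt.ofPt g₀ v).toHom) ↔ IsReduced Z := by
  rw [FieldPt.toHom_ofPt, ← Category.assoc, ← Functor.map_comp]
  let T' : Over S := Over.mk (Spec.map (CommRingCat.ofHom φ) ≫ (FieldPt.ofPt g₀ v).str)
  let h : T' ⟶ V := (Over.homMk (Spec.map (CommRingCat.ofHom φ)) rfl : T' ⟶ (FieldPt.ofPt g₀ v).pt) ≫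
    (Over.homMk (V.left.fromSpecResidueField v) rfl : (FieldPt.ofPt g₀ v).pt ⟶ V)
  have hw : fst ≫ U.hom = snd ≫ T'.hom := by
    have h1 : U.hom = u₀.left ≫ V.hom := (Over.w u₀).symm
    rw [h1, ← Category.assoc, sq.w]
    simp only [Category.assoc]
    rfl
  let U' : Over S := Over.mk (snd ≫ T'.hom)
  let pU : U' ⟶ U := Over.homMk fst hw
  let pT : U' ⟶ T' := Over.homMk snd rfl
  have sqU : IsPullback pU pT u₀ h := by
    refine IsPullback.of_map (Over.forget S) ?_ sq
    apply Over.OverMorphism.ext
    exact sq.w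
  exact redBC_iff_isReduced r hr hre hrs sqU

include hr hre hrs in
theorem gr_ofPt_iff (v : V.left) :
    GR f (FieldPt.ofPt g₀ v) ↔ GeometricallyReduced (u₀.left.fiberToSpecResidueField v) := by
  constructor
  · intro hgr
    refine ⟨fun K _ y Z fst snd sq => ?_⟩
    obtain ⟨φ, rfl⟩ := Spec.map_surjective y
    have sq2 := sq.paste_horiz (IsPullback.of_hasPullback u₀.left (V.left.fromSpecResidueField v))
    have sq3 : IsPullback (fst ≫ pullback.fst u₀.left (V.left.fromSpecResidueField v)) snd u₀.left
        (Spec.map (CommRingCat.ofHom φ.hom) ≫ V.left.fromSpecResidueField v) := sq2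
    exact (redBC_ofPt_iff r hr hre hrs v K φ.hom _ _ sq3).1 ((gr_iff _).1 hgr K φ.hom)
  · intro hgr
    rw [gr_iff]
    intro K _ φ
    let y : Spec (CommRingCat.of K) ⟶ Spec (V.left.residueField v) :=
      Spec.map (CommRingCat.ofHom φ)
    have sqZ := IsPullback.of_hasPullback u₀.left (y ≫ V.left.fromSpecResidueField v)
    refine (redBC_ofPt_iff r hr hre hrs v K φ _ _ sqZ).2 ?_
    let fst' : pullback u₀.left (y ≫ V.left.fromSpecResidueField v) ⟶
        pullback u₀.left (V.left.fromSpecResidueField v) :=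
      pullback.lift (pullback.fst _ _) (pullback.snd _ _ ≫ y)
        (by rw [pullback.condition, Category.assoc])
    have sqL : IsPullback fst' (pullback.snd u₀.left (y ≫ V.left.fromSpecResidueField v))
        (pullback.snd u₀.left (V.left.fromSpecResidueField v)) y := by
      refine IsPullback.of_right ?_ (pullback.lift_snd _ _ _)
        (IsPullback.of_hasPullback u₀.left (V.left.fromSpecResidueField v))
      rw [pullback.lift_fst]
      exact sqZ
    exact hgr.geometrically_isReduced y fst' _ sqL

end chart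

/-- **Etale local constructibility of the locus of geometrically reduced fibres.** -/
theorem isConstructible_preimage_gr (hX : IsAlgSpace X) (hY : IsAlgSpace Y)
    (hf1 : IsQuasiCompactMor f) (hf2 : LocP @LocallyOfFinitePresentation f)
    (V : Over S) (hV : IsAffine V.left) (a : (yon S).obj V ⟶ Y) (ha : RepWith @Etale a) :
    Topology.IsConstructible (Points.ofPt a ⁻¹'
      {y : Points Y | ∀ k : FieldPt Y, Points.mk k = y → GR f k}) := by
  have sq := IsPullback.of_hasPullback f a
  have hqc : IsQuasiCompactSp (pullback f a) :=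
    hf1 (IsAlgSpace.yon_obj V) ((isQuasiCompactSp_yon_iff V).2 inferInstance) _ _ _ sq
  obtain ⟨W, r, hWaff, hre, hrs⟩ := exists_affine_chart_of_isQuasiCompactSp hqc
  haveI := hWaff
  obtain ⟨u₀, hu₀⟩ := (yon S).map_surjective (r ≫ pullback.snd f a)
  have hfste : RepWith @Etale (pullback.fst f a) := (RepWith @Etale).of_isPullback sq.flip ha
  have hae : RepWith @Etale (r ≫ pullback.fst f a) := (RepWith @Etale).comp_mem _ _ hre hfste
  have comm : (r ≫ pullback.fst f a) ≫ f = (yon S).map u₀ ≫ a := by
    rw [Category.assoc, pullback.condition, ← Category.assoc, hu₀]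
  haveI hlfp : LocallyOfFinitePresentation u₀.left := hf2 _ _ u₀ hae ha comm
  haveI : QuasiCompact u₀.left := inferInstance
  have hlc := Groth.Agent.S1301.result u₀.left
  have hc := hlc.isConstructible
  convert hc using 1
  ext v
  simp only [Set.mem_preimage, Set.mem_ofPred_eq]
  constructor
  · intro h
    exact (gr_ofPt_iff r hu₀.symm hre hrs v).1 (h (FieldPt.ofPt a v) rfl)
  · intro h k hk
    exact gr_of_rel hX hY ((gr_ofPt_iff r hu₀.symm hre hrs v).2 h) (Points.mk_eq_mk_iff.1 hk.symm)

end Groth.Agent.Helper19.GRFib
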