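import Mathlib
import Groth.Prelude
import Groth.Agent.Lib.Helper19.UCSp.Chart
import Groth.Agent.Lib.Helper16.AlgSp.RedSp
import Groth.Agent.Lib.Helper15.AlgSpLocP

/-!
# Geometric reducedness of the fibres of a morphism of algebraic spaces (helper19)
-/

set_option autoImplicit false
set_option linter.style.haveILetI false
universe u
open CategoryTheory CategoryTheory.Limits AlgebraicGeometry MorphismProperty TopologicalSpace Opposite
open AlgSp Groth.Agent.Helper15 Groth.Agent.Helper16.AS Groth.Agent.Helper19.UCSp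

namespace Groth.Agent.Helper19.GRFib

variable {S : Scheme.{u}} {X Y : Sp S} (f : X ⟶ Y)

/-- every base change of `f` along `g` is (etale locally) reduced -/
def RedBC {Z : Sp S} (g : Z ⟶ Y) : Prop :=
  ∀ (P : Sp S) (fst : P ⟶ X) (snd : P ⟶ Z), IsPullback fst snd f g →
    EtaleLocally (fun U => IsReduced U) P

theorem etaleLocally_of_iso {Q : Scheme.{u} → Prop} {P P' : Sp S} (e : P ≅ P')
    (h : EtaleLocally Q P) : EtaleLocally Q P' := by
  obtain ⟨U, p, hpe, hps, hU⟩ := h
  exact ⟨U, p ≫ e.hom, (RepWith @Etale).comp_mem _ _ hpe (repWith_of_isIso _ e.hom),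
    (RepWith @Surjective).comp_mem _ _ hps (repWith_of_isIso _ e.hom), hU⟩

variable {f}

theorem redBC_iff {Z : Sp S} (g : Z ⟶ Y) :
    RedBC f g ↔ EtaleLocally (fun U => IsReduced U) (pullback f g) := by
  constructor
  · intro h
    exact h _ _ _ (IsPullback.of_hasPullback f g)
  · intro h P fst snd sq
    exact etaleLocally_of_iso sq.isoPullback.symm h

/-- descent of reducedness of the base change along a flat surjective morphism of schemes -/
theorem redBC_of_flat_surjective (hX : IsAlgSpace X) (hY : IsAlgSpace Y) {T T' : Over S}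
    (h : T' ⟶ T) (hfl : Flat h.left) (hs : Surjective h.left) (g : (yon S).obj T ⟶ Y)
    (hred : RedBC f ((yon S).map h ≫ g)) : RedBC f g := by
  rw [redBC_iff] at hred ⊢
  have hP : IsAlgSpace (pullback f g) :=
    isAlgSpace_of_isPullback hY.diag hX (IsAlgSpace.yon_obj T) (IsPullback.of_hasPullback f g)
  have hP' : IsAlgSpace (pullback f ((yon S).map h ≫ g)) :=
    isAlgSpace_of_isPullback hY.diag hX (IsAlgSpace.yon_obj T') (IsPullback.of_hasPullback f _)
  have sq := isPullback_rho (f := f) h g
  have h1 : RepWith @Flat (rho (f := f) h g) :=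
    (RepWith @Flat).of_isPullback sq.flip ((repWith_yon_map_iff _ h).2 hfl)
  have h2 : RepWith @Surjective (rho (f := f) h g) :=
    (RepWith @Surjective).of_isPullback sq.flip ((repWith_yon_map_iff _ h).2 hs)
  exact isReducedSp_of_flat_surjective hP' hP (rho (f := f) h g)
    (locP_of_repWith etale_le_flat _ h1) (isSurjectiveMor_of_repWith_surjective _ h2) hred

section chart

variable {V U : Over S} {g₀ : (yon S).obj V ⟶ Y} {u₀ : U ⟶ V}
  (r : (yon S).obj U ⟶ pullback f g₀) (hr : r ≫ pullback.snd f g₀ = (yon S).map u₀)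
  (hre : RepWith @Etale r) (hrs : RepWith @Surjective r)
  {T' U' : Over S} {h : T' ⟶ V} {pU : U' ⟶ U} {pT : U' ⟶ T'} (sqU : IsPullback pU pT u₀ h)

include hr hre hrs sqU in
/-- **Chart criterion**: the base change of `f` along `T' ⟶ V ⟶ Y` is reduced iff the scheme
`U ×_V T'` is, for an etale surjective chart `U` of `X ×_Y V`. -/
theorem redBC_iff_isReduced :
    RedBC f ((yon S).map h ≫ g₀) ↔ IsReduced U'.left := by
  rw [redBC_iff]
  constructor
  · intro hred
    exact isReduced_of_etale_of_isReducedSp hred (chartBC r hr sqU) (repWith_chartBC r hr sqU hre)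
  · intro hU
    exact ⟨U', chartBC r hr sqU, repWith_chartBC r hr sqU hre, repWith_chartBC r hr sqU hrs, hU⟩

end chart

end Groth.Agent.Helper19.GRFib
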