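import Groth.Agent.Lib.Helper16.AlgSp.BCSp
import Groth.Agent.Lib.Helper15.AlgSpDecent

/-!
# Decency is preserved by base change to a scheme; geometric integrality over a field (helper19)
-/

set_option autoImplicit false
set_option linter.style.haveILetI false
universe u
open CategoryTheory CategoryTheory.Limits AlgebraicGeometry MorphismProperty Opposite
open AlgSp Groth.Agent.Helper15 Groth.Agent.Helper16.AS

namespace Groth.Agent.Helper19.GRFib

variable {S : Scheme.{u}}

theorem isDecentMor_prod_fst (X : Sp S) (T : Over S) :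
    IsDecentMor (prod.fst : X ⨯ (yon S).obj T ⟶ X) := by
  intro W F' g fst snd sq
  have ref := isPullback_prod_map_id g ((yon S).obj T)
  let e : F' ≅ (yon S).obj W ⨯ (yon S).obj T := sq.isoIsPullback _ _ ref
  have h1 : IsDecent ((yon S).obj (W ⨯ T)) := isDecent_yon _
  have h2 : IsDecent ((yon S).obj W ⨯ (yon S).obj T) :=
    h1.of_iso (asIso (prodComparison (yon S) W T))
  exact h2.of_iso e.symm

theorem isDecent_prod_yon {X : Sp S} (hX : IsDecent X) (T : Over S) :
    IsDecent (X ⨯ (yon S).obj T) :=
  isDecent_of_isDecentMor _ (isDecentMor_prod_fst X T) hX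

end Groth.Agent.Helper19.GRFib
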