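import Groth.Agent.Lib.Helper19.GRFib.Core
import Groth.Agent.Lib.Helper15.AlgSpPoints

/-!
# Geometric reducedness of the fibre over a field point: independence of the representative
-/

set_option autoImplicit false
set_option linter.style.haveILetI false
universe u
open CategoryTheory CategoryTheory.Limits AlgebraicGeometry MorphismProperty TopologicalSpace Opposite
open AlgSp Groth.Agent.Helper15 Groth.Agent.Helper16.AS Groth.Agent.Helper19.UCSp

namespace Groth.Agent.Helper19.GRFib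

variable {S : Scheme.{u}} {X Y : Sp S} (f : X ⟶ Y)

/-- the fibre of `f` over the field point `k` is geometrically reduced (form of the statements) -/
def GR (k : FieldPt Y) : Prop :=
  ∀ (k' : Type u) [Field k'] (φ : k.K →+* k') (Xk' : Sp S) (a : Xk' ⟶ X)
    (b : Xk' ⟶ (yon S).obj (Over.mk (Spec.map (CommRingCat.ofHom φ) ≫ k.str))),
    IsPullback a b f ((yon S).map (Over.homMk (Spec.map (CommRingCat.ofHom φ)) rfl :
      Over.mk (Spec.map (CommRingCat.ofHom φ) ≫ k.str) ⟶ k.pt) ≫ k.toHom) →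
    EtaleLocally (fun U => IsReduced U) Xk'

variable {f}

theorem gr_iff (k : FieldPt Y) : GR f k ↔
    ∀ (k' : Type u) [Field k'] (φ : k.K →+* k'),
      RedBC f ((yon S).map (Over.homMk (Spec.map (CommRingCat.ofHom φ)) rfl :
        Over.mk (Spec.map (CommRingCat.ofHom φ) ≫ k.str) ⟶ k.pt) ≫ k.toHom) :=
  Iff.rfl

theorem GR.redBC_homMk {k : FieldPt Y} (hk : GR f k) (L : Type u) [Field L]
    (s : Spec (CommRingCat.of L) ⟶ Spec (CommRingCat.of k.K)) (w : Spec (CommRingCat.of L) ⟶ S)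
    (hw : s ≫ k.str = w) :
    RedBC f ((yon S).map (Over.homMk s hw : Over.mk w ⟶ k.pt) ≫ k.toHom) := by
  subst hw
  obtain ⟨φ, rfl⟩ := Spec.map_surjective s
  exact (gr_iff k).1 hk L φ.hom

theorem GR.redBC {k : FieldPt Y} (hk : GR f k) (L : Type u) [Field L]
    (w : Spec (CommRingCat.of L) ⟶ S) (c : Over.mk w ⟶ k.pt) :
    RedBC f ((yon S).map c ≫ k.toHom) := by
  have : c = Over.homMk c.left (Over.w c) := Over.OverMorphism.ext rfl
  rw [this]
  exact hk.redBC_homMk L c.left w (Over.w c)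

theorem toHom_eq_of_rel {F : Sp S} {p q : FieldPt F} {Ω : Type u} [Field Ω]
    {w : Spec (CommRingCat.of Ω) ⟶ S} (a : Over.mk w ⟶ p.pt) (b : Over.mk w ⟶ q.pt)
    (h : F.obj.map a.op p.val = F.obj.map b.op q.val) :
    (yon S).map a ≫ p.toHom = (yon S).map b ≫ q.toHom := by
  apply yonEquiv.injective
  rw [← GrothendieckTopology.uliftYonedaEquiv_naturality,
    ← GrothendieckTopology.uliftYonedaEquiv_naturality]
  rw [show yonEquiv p.toHom = p.val from FieldPt.uliftYonedaEquiv_toHom p,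
    show yonEquiv q.toHom = q.val from FieldPt.uliftYonedaEquiv_toHom q]
  exact h

instance flat_SpecMap_field (K Ω : Type u) [Field K] [Field Ω] (φ : K →+* Ω) :
    Flat (Spec.map (CommRingCat.ofHom φ)) := by
  rw [HasRingHomProperty.Spec_iff (P := @Flat)]
  algebraize [φ]
  show (algebraMap K Ω).Flat
  rw [RingHom.flat_algebraMap_iff]
  infer_instance

/-- geometric reducedness of the fibre depends only on the class of the field point -/
theorem gr_of_rel (hX : IsAlgSpace X) (hY : IsAlgSpace Y) {k₁ k₂ : FieldPt Y} (h₁ : GR f k₁)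
    (hrel : FieldPt.Rel k₁ k₂) : GR f k₂ := by
  rw [gr_iff]
  intro k' _ φ
  obtain ⟨Ω, _, w, a, b, hab⟩ := hrel
  have hab' := toHom_eq_of_rel a b hab
  obtain ⟨L, _, i₁, i₂, hi⟩ := FieldPt.exists_amalgamation φ (Spec.preimage b.left).hom
  -- the field `L` over `S`
  have hbw : b.left ≫ k₂.str = w := Over.w b
  have hL : Spec.map (CommRingCat.ofHom i₁) ≫ Spec.map (CommRingCat.ofHom φ) =
      Spec.map (CommRingCat.ofHom i₂) ≫ b.left := by
    conv_rhs => rw [← Spec.map_preimage b.left]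
    rw [← Spec.map_comp, ← Spec.map_comp]
    congr 1
    exact CommRingCat.hom_ext hi
  let T' : Over S := Over.mk (Spec.map (CommRingCat.ofHom φ) ≫ k₂.str)
  let TL : Over S := Over.mk (Spec.map (CommRingCat.ofHom i₁) ≫ T'.hom)
  let c₁ : TL ⟶ T' := Over.homMk (Spec.map (CommRingCat.ofHom i₁)) rfl
  have hw2 : Spec.map (CommRingCat.ofHom i₂) ≫ w = TL.hom := by
    change _ = Spec.map (CommRingCat.ofHom i₁) ≫ Spec.map (CommRingCat.ofHom φ) ≫ k₂.str
    rw [← hbw, ← Category.assoc, ← Category.assoc, hL]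
  let c₂ : TL ⟶ Over.mk w := Over.homMk (Spec.map (CommRingCat.ofHom i₂)) hw2
  let φT : T' ⟶ k₂.pt := Over.homMk (Spec.map (CommRingCat.ofHom φ)) rfl
  have hc : c₁ ≫ φT = c₂ ≫ b := Over.OverMorphism.ext (by simpa [c₁, c₂, φT] using hL)
  refine redBC_of_flat_surjective hX hY c₁ (flat_SpecMap_field _ _ i₁)
    ⟨fun x => ⟨IsLocalRing.closedPoint L,
      @Subsingleton.elim _ (inferInstanceAs (Subsingleton (Spec (CommRingCat.of k')))) _ _⟩⟩ _ ?_
  have e : (yon S).map c₁ ≫ (yon S).map φT ≫ k₂.toHom = (yon S).map (c₂ ≫ a) ≫ k₁.toHom := by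
    rw [← Category.assoc, ← Functor.map_comp, hc, Functor.map_comp, Category.assoc, ← hab',
      Functor.map_comp, Category.assoc]
  rw [e]
  exact h₁.redBC L TL.hom (c₂ ≫ a)

end Groth.Agent.Helper19.GRFib
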