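import Mathlib
import Groth.Prelude
import Groth.Agent.Lib.Helper16.Sch.GeomRedEt

/-!
# The locus where the fibres of a morphism of schemes are geometrically reduced is invariant under
etale morphisms of the source (helper19)
-/

set_option autoImplicit false
set_option linter.style.haveILetI false
universe u
open CategoryTheory CategoryTheory.Limits AlgebraicGeometry

namespace Groth.Agent.Helper19.GRFib

variable {R U V : Scheme.{u}} (u₀ : U ⟶ V)

/-- the points of the source at which the fibre of `u₀` is geometrically reduced -/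
def grLocus : Set U :=
  {x | FBase.IsGeomReducedAt (u₀.fiberToSpecResidueField (u₀ x)) (u₀.asFiber x)}

theorem apply_fiberι' (v : V) (z : u₀.fiber v) : u₀ (u₀.fiberι v z) = v := by
  have h := congrArg (fun φ : u₀.fiber v ⟶ V => φ z) (u₀.fiber_fac v)
  simp only [Scheme.Hom.comp_apply] at h
  rw [h, Scheme.fromSpecResidueField_apply]

theorem mem_grLocus_iff (x : U) : x ∈ grLocus u₀ ↔
    ∀ (v : V) (z : u₀.fiber v), u₀.fiberι v z = x →
      FBase.IsGeomReducedAt (u₀.fiberToSpecResidueField v) z := by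
  constructor
  · intro h v z hz
    have hv : u₀ x = v := by rw [← hz]; exact apply_fiberι' u₀ v z
    subst hv
    obtain rfl : z = u₀.asFiber x :=
      (u₀.fiberι _).isEmbedding.injective (hz.trans (u₀.fiberι_asFiber x).symm)
    exact h
  · intro h
    exact h _ _ (u₀.fiberι_asFiber x)

variable (g : R ⟶ U)

/-- the map induced on fibres -/
noncomputable def fibMap (v : V) : (g ≫ u₀).fiber v ⟶ u₀.fiber v :=
  pullback.lift ((g ≫ u₀).fiberι v ≫ g) ((g ≫ u₀).fiberToSpecResidueField v)
    (by rw [Category.assoc]; exact (g ≫ u₀).fiber_fac v)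

theorem fibMap_fiberι (v : V) : fibMap u₀ g v ≫ u₀.fiberι v = (g ≫ u₀).fiberι v ≫ g :=
  pullback.lift_fst _ _ _

theorem fibMap_toSpec (v : V) : fibMap u₀ g v ≫ u₀.fiberToSpecResidueField v =
    (g ≫ u₀).fiberToSpecResidueField v :=
  pullback.lift_snd _ _ _

theorem isPullback_fibMap (v : V) :
    IsPullback (fibMap u₀ g v) ((g ≫ u₀).fiberι v) (u₀.fiberι v) g := by
  refine IsPullback.of_right ?_ (fibMap_fiberι u₀ g v)
    (IsPullback.of_hasPullback u₀ (V.fromSpecResidueField v)).flip
  rw [show fibMap u₀ g v ≫ pullback.snd u₀ (V.fromSpecResidueField v) =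
    pullback.snd (g ≫ u₀) (V.fromSpecResidueField v) from fibMap_toSpec u₀ g v]
  exact (IsPullback.of_hasPullback (g ≫ u₀) (V.fromSpecResidueField v)).flip

theorem isGeomReducedAt_fibMap_iff [Etale g] (v : V) (z : (g ≫ u₀).fiber v) :
    FBase.IsGeomReducedAt ((g ≫ u₀).fiberToSpecResidueField v) z ↔
      FBase.IsGeomReducedAt (u₀.fiberToSpecResidueField v) (fibMap u₀ g v z) := by
  haveI : Etale (fibMap u₀ g v) :=
    MorphismProperty.of_isPullback (isPullback_fibMap u₀ g v).flip inferInstance
  let gv : (Over.mk ((g ≫ u₀).fiberToSpecResidueField v) :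
      Over (Spec (CommRingCat.of (IsLocalRing.ResidueField (V.presheaf.stalk v))))) ⟶
      Over.mk (u₀.fiberToSpecResidueField v) :=
    Over.homMk (fibMap u₀ g v) (fibMap_toSpec u₀ g v)
  haveI : Etale gv.left := (inferInstance : Etale (fibMap u₀ g v))
  exact Groth.Agent.Helper16.GeomRedEt.isGeomReducedAt_iff_of_etale
    (k := IsLocalRing.ResidueField (V.presheaf.stalk v)) gv z

/-- **Etale invariance** of the locus of geometrically reduced fibres. -/
theorem mem_grLocus_comp_iff [Etale g] (w : R) : w ∈ grLocus (g ≫ u₀) ↔ g w ∈ grLocus u₀ := by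
  constructor
  · intro hw
    rw [mem_grLocus_iff]
    intro v z' hz'
    obtain ⟨p, hp1, hp2⟩ := Scheme.exists_preimage_of_isPullback (isPullback_fibMap u₀ g v) z' w hz'
    have := (isGeomReducedAt_fibMap_iff u₀ g v p).1 ((mem_grLocus_iff _ w).1 hw v p hp2)
    rwa [show (fibMap u₀ g v) p = z' from hp1] at this
  · intro hw
    rw [mem_grLocus_iff]
    intro v z hz
    refine (isGeomReducedAt_fibMap_iff u₀ g v z).2 ((mem_grLocus_iff u₀ (g w)).1 hw v _ ?_)
    have h := congrArg (fun φ : (g ≫ u₀).fiber v ⟶ U => φ z) (fibMap_fiberι u₀ g v)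
    simp only [Scheme.Hom.comp_apply] at h
    rw [h, hz]

theorem mem_grLocus_iff_of_eq {s t : R ⟶ U} [Etale s] [Etale t] (hst : s ≫ u₀ = t ≫ u₀) (w : R) :
    s w ∈ grLocus u₀ ↔ t w ∈ grLocus u₀ := by
  rw [← mem_grLocus_comp_iff u₀ s w, ← mem_grLocus_comp_iff u₀ t w, hst]

end Groth.Agent.Helper19.GRFib
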