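import Groth.Agent.Lib.Helper19.GRFib.Cons
import Groth.Agent.Lib.Helper19.GRFib.SchEt
import Groth.Agent.Lib.Helper16.Sch.GeomRedOpen1

/-!
# Openness of the locus of geometrically reduced fibres for flat, universally closed morphisms of
algebraic spaces which are locally of finite presentation (helper19)
-/

set_option autoImplicit false
set_option linter.style.haveILetI false
universe u
open CategoryTheory CategoryTheory.Limits AlgebraicGeometry MorphismProperty TopologicalSpace Opposite
open AlgSp Groth.Agent.Helper15 Groth.Agent.Helper16.AS Groth.Agent.Helper19.UCSp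

namespace Groth.Agent.Helper19.GRFib

variable {S : Scheme.{u}} {X Y : Sp S} {f : X ⟶ Y}

/-- openness in an etale chart of the base -/
theorem isOpen_preimage_gr (hX : IsAlgSpace X) (hY : IsAlgSpace Y)
    (hfl : LocP @Flat f) (hlfp : LocP @LocallyOfFinitePresentation f) (huc : IsUnivClosedMor f)
    (V : Over S) (a : (yon S).obj V ⟶ Y) (ha : RepWith @Etale a) :
    IsOpen (Points.ofPt a ⁻¹' {y : Points Y | ∀ k : FieldPt Y, Points.mk k = y → GR f k}) := by
  have sq := IsPullback.of_hasPullback f a
  have hXV : IsAlgSpace (pullback f a) :=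
    isAlgSpace_of_isPullback hY.diag hX (IsAlgSpace.yon_obj V) sq
  obtain ⟨U, r, hre, hrs⟩ := hXV.atlas
  obtain ⟨u₀, hu₀⟩ := (yon S).map_surjective (r ≫ pullback.snd f a)
  have hfste : RepWith @Etale (pullback.fst f a) := (RepWith @Etale).of_isPullback sq.flip ha
  have hae : RepWith @Etale (r ≫ pullback.fst f a) := (RepWith @Etale).comp_mem _ _ hre hfste
  have comm : (r ≫ pullback.fst f a) ≫ f = (yon S).map u₀ ≫ a := by
    rw [Category.assoc, pullback.condition, ← Category.assoc, hu₀]
  haveI hlfp' : LocallyOfFinitePresentation u₀.left := hlfp _ _ u₀ hae ha comm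
  haveI hfl' : Flat u₀.left := hfl _ _ u₀ hae ha comm
  -- membership through the fibres of the chart
  have hE : ∀ v : V.left, v ∈ Points.ofPt a ⁻¹'
      {y : Points Y | ∀ k : FieldPt Y, Points.mk k = y → GR f k} ↔
      ∀ x : U.left, u₀.left x = v → x ∈ grLocus u₀.left := by
    intro v
    have h1 : v ∈ Points.ofPt a ⁻¹' {y : Points Y | ∀ k : FieldPt Y, Points.mk k = y → GR f k} ↔
        GeometricallyReduced (u₀.left.fiberToSpecResidueField v) := by
      simp only [Set.mem_preimage, Set.mem_ofPred_eq]
      constructor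
      · intro h
        exact (gr_ofPt_iff r hu₀.symm hre hrs v).1 (h (FieldPt.ofPt a v) rfl)
      · intro h k hk
        exact gr_of_rel hX hY ((gr_ofPt_iff r hu₀.symm hre hrs v).2 h)
          (Points.mk_eq_mk_iff.1 hk.symm)
    rw [h1]
    exact Groth.Agent.Helper16.SmCd.geometricallyReduced_fibre_iff u₀.left v
  -- the open locus in the chart and its saturation
  have hWo : IsOpen (grLocus u₀.left) := Groth.Agent.Helper16.EquiSk.isOpen_geomReduced_fibre u₀.left
  have hsat : ∀ x x' : U.left, Points.ofPt r x = Points.ofPt r x' →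
      (x ∈ grLocus u₀.left ↔ x' ∈ grLocus u₀.left) := by
    intro x x' hxx'
    have sqR := hre.rep.isPullback' r
    haveI h1 : Etale (hre.rep.snd r).left := hre.property_snd r
    haveI h2 : Etale (hre.rep.fst' r).left := hre.property r _ _ sqR.flip
    obtain ⟨w, hw1, hw2⟩ := exists_of_ofPt_eq sqR x x' hxx'
    have hst : (hre.rep.fst' r).left ≫ u₀.left = (hre.rep.snd r).left ≫ u₀.left := by
      have : hre.rep.fst' r ≫ u₀ = hre.rep.snd r ≫ u₀ := by
        apply (yon S).map_injective
        rw [Functor.map_comp, Functor.map_comp, hu₀, ← Category.assoc, ← Category.assoc, sqR.w]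
      exact congrArg (fun φ => φ.left) this
    have := mem_grLocus_iff_of_eq u₀.left hst w
    rwa [hw1, hw2] at this
  -- closedness of the image of the bad locus
  have hcl : IsClosedMap (Points.map (pullback.snd f a)) :=
    huc (IsAlgSpace.yon_obj V) a _ _ sq
  have hCo : IsOpen (Points.ofPt r '' grLocus u₀.left) := isOpenMap_ofPt_of_etale r hre _ hWo
  have hD := hcl _ hCo.isClosed_compl
  have hD' := (hD.preimage (Points.schemeHomeo V).continuous).isOpen_compl
  convert hD' using 1
  ext v
  rw [hE v]
  simp only [Set.mem_compl_iff, Set.mem_preimage, Set.mem_image, not_exists, not_and]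
  have hsnd : ∀ x : U.left, Points.map (pullback.snd f a) (Points.ofPt r x) =
      Points.schemeHomeo V (u₀.left x) := by
    intro x
    rw [Points.map_ofPt, ← hu₀, Groth.Agent.Helper15.ofPt_yon_map]
    rfl
  constructor
  · intro h ξ hξ hξv
    obtain ⟨x, rfl⟩ := surjective_ofPt r hrs ξ
    rw [hsnd] at hξv
    have hxv : u₀.left x = v := (Points.schemeHomeo V).injective hξv
    exact hξ x (h x hxv) rfl
  · intro h x hxv
    by_contra hx
    refine h (Points.ofPt r x) ?_ (by rw [hsnd, hxv])
    rintro x' hx' hxx'
    exact hx ((hsat x' x hxx').1 hx')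

/-- **Openness of the locus of geometrically reduced fibres.** -/
theorem isOpen_gr (hX : IsAlgSpace X) (hY : IsAlgSpace Y)
    (hfl : LocP @Flat f) (hlfp : LocP @LocallyOfFinitePresentation f) (huc : IsUnivClosedMor f) :
    IsOpen {y : Points Y | ∀ k : FieldPt Y, Points.mk k = y → GR f k} := by
  obtain ⟨V, a, hae, has⟩ := hY.atlas
  have h := isOpen_preimage_gr hX hY hfl hlfp huc V a hae
  have h2 := isOpenMap_ofPt_of_etale a hae _ h
  rwa [Set.image_preimage_eq _ (surjective_ofPt a has)] at h2

end Groth.Agent.Helper19.GRFib
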