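import Groth.Agent.Lib.Helper19.GRFib.Field

/-!
# Geometric reducedness of the fibre at a point: the three equivalent forms
-/

set_option autoImplicit false
set_option linter.style.haveILetI false
universe u
open CategoryTheory CategoryTheory.Limits AlgebraicGeometry MorphismProperty TopologicalSpace Opposite
open AlgSp Groth.Agent.Helper15 Groth.Agent.Helper16.AS Groth.Agent.Helper19.UCSp

namespace Groth.Agent.Helper19.GRFib

variable {S : Scheme.{u}} {X Y : Sp S} {f : X ⟶ Y}

/-- restriction of a field point along a field extension -/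
noncomputable abbrev restr (k : FieldPt Y) (k' : Type u) [Field k'] (φ : k.K →+* k') : FieldPt Y where
  K := k'
  str := Spec.map (CommRingCat.ofHom φ) ≫ k.str
  val := Y.obj.map (Over.homMk (Spec.map (CommRingCat.ofHom φ)) rfl :
      Over.mk (Spec.map (CommRingCat.ofHom φ) ≫ k.str) ⟶ k.pt).op k.val

theorem restr_toHom (k : FieldPt Y) (k' : Type u) [Field k'] (φ : k.K →+* k') :
    (restr k k' φ).toHom = (yon S).map (Over.homMk (Spec.map (CommRingCat.ofHom φ)) rfl :
      Over.mk (Spec.map (CommRingCat.ofHom φ) ≫ k.str) ⟶ k.pt) ≫ k.toHom := by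
  apply yonEquiv.injective
  rw [← GrothendieckTopology.uliftYonedaEquiv_naturality]
  rw [show yonEquiv k.toHom = k.val from FieldPt.uliftYonedaEquiv_toHom k]
  exact FieldPt.uliftYonedaEquiv_toHom (restr k k' φ)

theorem mk_restr (k : FieldPt Y) (k' : Type u) [Field k'] (φ : k.K →+* k') :
    Points.mk (restr k k' φ) = Points.mk k := by
  refine Points.sound ⟨k', inferInstance, (restr k k' φ).str, 𝟙 _,
    (Over.homMk (Spec.map (CommRingCat.ofHom φ)) rfl :
      Over.mk (Spec.map (CommRingCat.ofHom φ) ≫ k.str) ⟶ k.pt), ?_⟩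
  rw [op_id, Y.obj.map_id]
  rfl

theorem tfae (hX : IsAlgSpace X) (hY : IsAlgSpace Y) (y : Points Y) :
    [∃ k : FieldPt Y, Points.mk k = y ∧ GR f k,
      ∀ k : FieldPt Y, Points.mk k = y → GR f k,
      ∀ k : FieldPt Y, Points.mk k = y → RedBC f k.toHom].TFAE := by
  tfae_have 1 → 2 := by
    rintro ⟨k₁, rfl, h₁⟩ k₂ h₂
    exact gr_of_rel hX hY h₁ (Points.mk_eq_mk_iff.1 h₂.symm)
  tfae_have 2 → 3 := by
    intro h k hk
    have := (h k hk).redBC k.K k.str (𝟙 _)
    rwa [(yon S).map_id, Category.id_comp] at this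
  tfae_have 3 → 1 := by
    intro h
    obtain ⟨k, rfl⟩ := Points.mk_surjective y
    refine ⟨k, rfl, ?_⟩
    rw [gr_iff]
    intro k' _ φ
    have := h (restr k k' φ) (mk_restr k k' φ)
    rwa [restr_toHom] at this
  tfae_finish

end Groth.Agent.Helper19.GRFib
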